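import Cfsg.Agent.Lib.Frobenius.Theorem
import Cfsg.Agent.Lib.Frobenius.Basic
import Cfsg.Agent.Lib.Solvable.CoprimeAction
import Cfsg.Agent.Lib.CoreFree.Basic

/-!
A finite group with an abelian maximal subgroup has trivial third derived subgroup.
-/

set_option autoImplicit false

open Subgroup
open scoped Pointwise commutatorElement

namespace CfsgLib.AbelianMaximal

/-- A group with a self-normalizing abelian maximal Frobenius complement is metabelian. -/
theorem derivedSeries_two_of_frobenius {G : Type*} [Group G] [Finite G] {A : Subgroup G}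
    (hA : IsCoatom A) [IsMulCommutative A] (hF : Cfsg.IsFrobeniusComplement A) :
    derivedSeries G 2 = ⊥ := by
  obtain ⟨K, -, hKn, hc⟩ := CfsgLib.Frobenius.exists_kernel_subgroup hF
  have hcop : (Nat.card A).Coprime (Nat.card K) := by
    rw [← hc.index_eq_card]
    exact CfsgLib.Frobenius.coprime_card_index hF
  have hAK : A ≤ normalizer (K : Set G) := (normalizer_eq_top K).ge.trans' le_top
  have hGK : commutator G ≤ K := by
    rw [commutator_def, commutator_le]
    intro a _ b _
    obtain ⟨k₁, hk₁, x, hx, rfl⟩ := mem_sup_of_normal_left.mp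
      (hc.sup_eq_top ▸ mem_top a : a ∈ K ⊔ A)
    obtain ⟨k₂, hk₂, y, hy, rfl⟩ := mem_sup_of_normal_left.mp
      (hc.sup_eq_top ▸ mem_top b : b ∈ K ⊔ A)
    refine (QuotientGroup.eq_one_iff _).mp ?_
    show QuotientGroup.mk' K ⁅k₁ * x, k₂ * y⁆ = 1
    rw [map_commutatorElement, commutatorElement_eq_one_iff_mul_comm, map_mul, map_mul,
      show QuotientGroup.mk' K k₁ = 1 from (QuotientGroup.eq_one_iff _).mpr hk₁,
      show QuotientGroup.mk' K k₂ = 1 from (QuotientGroup.eq_one_iff _).mpr hk₂, one_mul, one_mul,
      ← map_mul, ← map_mul]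
    exact congrArg _ (congrArg Subtype.val (mul_comm' (⟨x, hx⟩ : A) ⟨y, hy⟩))
  by_cases hK : K = ⊥
  · rw [derivedSeries_succ, derivedSeries_one, eq_bot_iff]
    calc ⁅commutator G, commutator G⁆ ≤ ⁅(⊥ : Subgroup G), (⊥ : Subgroup G)⁆ :=
          commutator_mono (hK ▸ hGK) (hK ▸ hGK)
      _ ≤ ⊥ := commutator_le_self _
  obtain ⟨r, hr, hrd⟩ := Nat.exists_prime_and_dvd ((one_lt_card_iff_ne_bot K).mpr hK).ne'
  have := Fact.mk hr
  have hAs : Group.IsSolvable A := Group.isSolvable_of_comm fun a b => mul_comm' a b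
  obtain ⟨R, hR⟩ := CfsgLib.Solvable.exists_invariant_sylow hAK hcop (Or.inl hAs) r
  have key : ∀ S : Subgroup G, A ≤ normalizer (S : Set G) → S ≤ K → S ≠ ⊥ → S = K := by
    intro S hS hle hne
    have htop : A ⊔ S = ⊤ := hA.2 _ (left_lt_sup.mpr fun h => hne
      (eq_bot_iff.mpr ((le_inf hle h).trans hc.disjoint.le_bot)))
    have h1 := CfsgLib.Solvable.card_sup_of_disjoint hS (hc.disjoint.mono_left hle)
    rw [sup_comm, htop, card_top, ← hc.card_mul] at h1
    exact eq_of_le_of_card_ge hle (Nat.eq_of_mul_eq_mul_right Nat.card_pos h1).le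
  have hRK : (R : Subgroup K).map K.subtype = K := by
    refine key _ hR (map_subtype_le _) ?_
    rw [Ne, map_eq_bot_iff_of_injective _ K.subtype_injective]
    exact R.ne_bot_of_dvd_card hrd
  have hKr : IsPGroup r K := hRK ▸ (R.2.map K.subtype)
  -- the derived subgroup of `K` is trivial
  have hK' : ⁅K, K⁆ = ⊥ := by
    by_contra hne
    have hn : A ≤ normalizer ((⁅K, K⁆ : Subgroup G) : Set G) := (normalizer_eq_top _).ge.trans' le_top
    have h1 : ⁅K, K⁆ = K := key _ hn (commutator_le_self K) hne
    have := hKr.isNilpotent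
    obtain ⟨n, hn⟩ := (isNilpotent_iff_lowerCentralSeries K).mp inferInstance
    have : ∀ m, K.lowerCentralSeries m = K := fun m => by
      induction m with
      | zero => rfl
      | succ m ih => rw [Subgroup.lowerCentralSeries_succ, ih, h1]
    exact hK ((this n).symm.trans hn)
  rw [derivedSeries_succ, derivedSeries_one, eq_bot_iff, ← hK']
  exact commutator_mono hGK hGK

/-- Herstein's theorem. -/
theorem derivedSeries_three {G : Type*} [Group G] [Finite G] (A : Subgroup G) (hA : IsCoatom A)
    [IsMulCommutative A] : derivedSeries G 3 = ⊥ := by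
  have hAc : A ≤ centralizer (A : Set G) := CfsgLib.CoreFree.isMulCommutative_iff_le_centralizer.mp ‹_›
  by_cases hn : A.Normal
  · have : Nontrivial (G ⧸ A) := QuotientGroup.nontrivial_iff.mpr hA.1
    have hcyc : IsCyclic (G ⧸ A) := by
      obtain ⟨x, hx⟩ : ∃ x, x ∉ A := by
        by_contra h
        push Not at h
        exact hA.1 (eq_top_iff' A |>.mpr h)
      rw [isCyclic_iff_exists_zpowers_eq_top]
      refine ⟨QuotientGroup.mk' A x, eq_top_iff.mpr ?_⟩
      have h1 : A ⊔ zpowers x = ⊤ := hA.2 _ (left_lt_sup.mpr fun h => hx (h (mem_zpowers x)))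
      rw [← map_top_of_surjective _ (QuotientGroup.mk'_surjective A), ← h1, Subgroup.map_sup,
        QuotientGroup.map_mk'_self, bot_sup_eq, MonoidHom.map_zpowers]
    have hGA : commutator G ≤ A := (Normal.quotient_commutative_iff_commutator_le (N := A)).mp
      IsCyclic.isMulCommutative
    rw [derivedSeries_succ, derivedSeries_succ, derivedSeries_one, eq_bot_iff]
    refine le_trans (commutator_le_self _) ?_
    rw [le_bot_iff, commutator_eq_bot_iff_le_centralizer]
    exact hGA.trans (hAc.trans (centralizer_le hGA))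
  have hnorm : normalizer (A : Set G) = A :=
    ((hA.le_iff.mp le_normalizer).resolve_left fun h => hn (normalizer_eq_top_iff.mp h))
  set Z := center G
  have hZA : Z ≤ A := hnorm ▸ center_le_normalizer _
  have hZne : ¬ A ≤ Z := fun h => hn (le_antisymm h hZA ▸ inferInstance)
  set π := QuotientGroup.mk' Z
  have hπ := QuotientGroup.mk'_surjective Z
  have hcomap : (A.map π).comap π = A :=
    comap_map_eq_self (by rw [QuotientGroup.ker_mk']; exact hZA)
  have hAc' : IsCoatom (A.map π) := by
    refine ⟨fun e => hA.1 ?_, fun Y hY => ?_⟩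
    · rw [← hcomap, e, comap_top]
    · refine comap_injective hπ ((hA.2 _ ?_).trans (comap_top _).symm)
      rw [← hcomap]
      exact (comap_lt_comap_of_surjective hπ).mpr hY
  have hcomm' : IsMulCommutative (A.map π) := ⟨⟨fun ⟨_, a, ha, rfl⟩ ⟨_, b, hb, rfl⟩ => by
    refine Subtype.ext ?_
    show π a * π b = π b * π a
    rw [← map_mul, ← map_mul]
    exact congrArg π (congrArg Subtype.val (mul_comm' (⟨a, ha⟩ : A) ⟨b, hb⟩))⟩⟩
  have hF : Cfsg.IsFrobeniusComplement (A.map π) := by
    refine ⟨fun e => hZne ?_, hAc'.1, fun g hg => ?_⟩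
    · have := (Subgroup.map_eq_bot_iff _).mp e
      rwa [QuotientGroup.ker_mk'] at this
    · obtain ⟨g, rfl⟩ := hπ g
      have hgA : g ∉ A := fun h => hg (mem_map_of_mem π h)
      have hle : A ⊓ MulAut.conj g • A ≤ Z := by
        intro z hz
        have htop : centralizer {z} = ⊤ := by
          refine (hA.le_iff.mp ?_).resolve_right fun e => ?_
          · exact fun a ha => mem_centralizer_singleton_iff.mpr
              ((mem_centralizer_iff.mp (hAc ha) z hz.1).symm)
          · have h1 : MulAut.conj g • A ≤ A := by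
              intro a ha
              suffices a ∈ centralizer {z} by rwa [e] at this
              rw [mem_centralizer_singleton_iff]
              have hz' := CfsgLib.Solvable.mem_conj_smul.mp hz.2
              have ha' := CfsgLib.Solvable.mem_conj_smul.mp ha
              have := congrArg (fun t => g * t * g⁻¹) (mem_centralizer_iff.mp (hAc ha') _ hz')
              simpa [mul_assoc] using this.symm
            exact hgA (hnorm ▸ CfsgLib.Solvable.conj_smul_eq_self_iff.mp
              (eq_of_le_of_card_ge h1 (CfsgLib.Solvable.card_conj_smul g A).ge))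
        exact mem_center_iff.mpr fun y => mem_centralizer_singleton_iff.mp (htop ▸ mem_top y)
      rw [eq_bot_iff]
      intro w hw
      obtain ⟨w, rfl⟩ := hπ w
      have h1 : w ∈ A := hcomap.le hw.1
      have h2 : π (g⁻¹ * w * g) ∈ A.map π := by
        rw [map_mul, map_mul, map_inv]
        exact CfsgLib.Solvable.mem_conj_smul.mp hw.2
      rw [mem_bot]
      exact (QuotientGroup.eq_one_iff w).mpr
        (hle ⟨h1, CfsgLib.Solvable.mem_conj_smul.mpr (hcomap.le h2)⟩)
  have h2 := derivedSeries_two_of_frobenius hAc' hF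
  rw [← map_derivedSeries_eq hπ, Subgroup.map_eq_bot_iff, QuotientGroup.ker_mk'] at h2
  rw [derivedSeries_succ, eq_bot_iff]
  refine (commutator_mono h2 h2).trans ?_
  rw [le_bot_iff, commutator_eq_bot_iff_le_centralizer]
  exact center_le_centralizer _

end CfsgLib.AbelianMaximal
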